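import Cfsg.Agent.Lib.Coprime.Generation
import Cfsg.Agent.Lib.Coprime.Quotient
import Cfsg.Agent.Lib.Coprime.Commutator

/-!
# Fixed points of a coprime abelian action on a perfect-action group

If `Y = [Y, A]` is solvable, `A` abelian of coprime order and `B ≤ A`, then `C_Y(B)` is generated by
the `C_Y(B) ∩ [C_Y(A₁ ∩ B), A]` with `A / A₁` cyclic.
-/

set_option autoImplicit false
set_option linter.style.haveILetI false

namespace Cfsg.Agent.CoprimeGen

open Subgroup
open scoped commutatorElement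

universe u

variable {G : Type u} [Group G]

/-- The subgroup generated by the `C_Y(B) ∩ [C_Y(A₁ ∩ B), A]`, `A / A₁` cyclic. -/
def genSub (A B Y : Subgroup G) : Subgroup G :=
  ⨆ A₁ ∈ {A₁ : Subgroup G | A₁ ≤ A ∧ ∃ a ∈ A, A₁ ⊔ zpowers a = A},
    Y ⊓ centralizer (B : Set G) ⊓ ⁅Y ⊓ centralizer ((A₁ ⊓ B : Subgroup G) : Set G), A⁆

theorem le_genSub {A B Y A₁ : Subgroup G} (h : A₁ ≤ A) (h' : ∃ a ∈ A, A₁ ⊔ zpowers a = A) :
    Y ⊓ centralizer (B : Set G) ⊓ ⁅Y ⊓ centralizer ((A₁ ⊓ B : Subgroup G) : Set G), A⁆ ≤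
      genSub A B Y :=
  le_iSup₂ (f := fun A₁ (_ : A₁ ∈ {A₁ : Subgroup G | A₁ ≤ A ∧ ∃ a ∈ A, A₁ ⊔ zpowers a = A}) =>
    Y ⊓ centralizer (B : Set G) ⊓ ⁅Y ⊓ centralizer ((A₁ ⊓ B : Subgroup G) : Set G), A⁆) A₁ ⟨h, h'⟩

theorem genSub_le (A B Y : Subgroup G) : genSub A B Y ≤ Y ⊓ centralizer (B : Set G) :=
  iSup₂_le fun _ _ => inf_le_left

theorem le_centralizer_self {A C : Subgroup G} [IsMulCommutative A] (hC : C ≤ A) :
    A ≤ centralizer (C : Set G) := fun x hx => mem_centralizer_iff.2 fun y hy =>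
  congrArg (fun z : A => (z : G)) (mul_comm' (⟨y, hC hy⟩ : A) ⟨x, hx⟩)

theorem le_normalizer_inf_centralizer {A C Y : Subgroup G} [IsMulCommutative A] (hC : C ≤ A)
    (hY : A ≤ normalizer (Y : Set G)) :
    A ≤ normalizer ((Y ⊓ centralizer (C : Set G) : Subgroup G) : Set G) := by
  refine Coprime.le_normalizer_inf_of_le hY ?_
  intro x hx
  refine mem_normalizer_iff.2 fun g => ?_
  have hcx : ∀ c ∈ C, c * x = x * c := fun c hc =>
    mem_centralizer_iff.1 (le_centralizer_self hC hx) c hc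
  simp only [SetLike.mem_coe, mem_centralizer_iff]
  refine ⟨fun h c hc => ?_, fun h c hc => ?_⟩
  · calc c * (x * g * x⁻¹) = x * (c * g) * x⁻¹ := by rw [← mul_assoc, ← mul_assoc, hcx c hc]; group
      _ = x * (g * c) * x⁻¹ := by rw [h c hc]
      _ = x * g * (x⁻¹ * (x * c)) * x⁻¹ := by group
      _ = x * g * x⁻¹ * c := by rw [← hcx c hc]; group
  · have h1 := h c hc
    calc c * g = x⁻¹ * (c * (x * g * x⁻¹)) * x := by
          rw [← mul_assoc c, ← mul_assoc c, hcx c hc]; group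
      _ = x⁻¹ * (x * g * x⁻¹ * c) * x := by rw [h1]
      _ = g * c := by
          rw [show x⁻¹ * (x * g * x⁻¹ * c) * x = g * (x⁻¹ * (c * x)) by group, hcx c hc, inv_mul_cancel_left]

variable [Finite G] {A B Y : Subgroup G} [IsMulCommutative A]

theorem solvable_or (A : Subgroup G) [IsMulCommutative A] (K : Subgroup G) :
    Group.IsSolvable A ∨ Group.IsSolvable K :=
  Or.inl (Group.isSolvable_of_comm fun x y => mul_comm' x y)

/-- An element of `[C_Y(A₁), A]` fixed by `A` lies in the generated subgroup. -/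
theorem mem_genSub_of_fixed (hB : B ≤ A) {A₁ : Subgroup G} (h : A₁ ≤ A)
    (h' : ∃ a ∈ A, A₁ ⊔ zpowers a = A) (hAY : A ≤ normalizer (Y : Set G)) {e : G}
    (he : e ∈ ⁅Y ⊓ centralizer (A₁ : Set G), A⁆) (hec : e ∈ centralizer (A : Set G)) :
    e ∈ genSub A B Y := by
  refine le_genSub h h' ⟨⟨?_, centralizer_le hB hec⟩, commutator_mono
    (inf_le_inf_left _ (centralizer_le (inf_le_left : A₁ ⊓ B ≤ A₁))) le_rfl he⟩
  exact (Coprime.commutator_le_left_of_le_normalizer
    (le_normalizer_inf_centralizer h hAY) he).1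

theorem exists_split {V : Subgroup G} (hV : A ≤ normalizer (V : Set G))
    (hcop : (Nat.card A).Coprime (Nat.card V)) {v : G} (hv : v ∈ V) :
    ∃ c ∈ V ⊓ centralizer (A : Set G), ∃ m ∈ ⁅V, A⁆, v = c * m :=
  Coprime.exists_centralizer_mul_commutator hV hcop (solvable_or A V) hv

/-- The abelian `V` is covered as soon as it lies in `(V ∩ C(A) ∩ K)[V, A]`. -/
theorem fixed_le_of_le_sup {V K : Subgroup G} [IsMulCommutative V] (hV : A ≤ normalizer (V : Set G))
    (hcop : (Nat.card A).Coprime (Nat.card V))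
    (h : V ≤ V ⊓ centralizer (A : Set G) ⊓ K ⊔ ⁅V, A⁆) : V ⊓ centralizer (A : Set G) ≤ K := by
  intro v hv
  have hle : V ⊓ centralizer (A : Set G) ⊓ K ≤ normalizer ((⁅V, A⁆ : Subgroup G) : Set G) :=
    (inf_le_left.trans inf_le_left).trans (normalizer_commutator_ge_left V A)
  obtain ⟨k, hk, m, hm, rfl⟩ := (Coprime.mem_sup_iff_of_le_normalizer hle).1 (h hv.1)
  have hm1 : m ∈ V ⊓ centralizer (A : Set G) ⊓ ⁅V, A⁆ := by
    refine ⟨?_, hm⟩
    have := Subgroup.mul_mem _ (Subgroup.inv_mem _ hk.1) hv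
    rwa [inv_mul_cancel_left] at this
  rw [Coprime.inf_centralizer_inf_commutator_eq_bot hV hcop, mem_bot] at hm1
  rw [hm1, mul_one]
  exact hk.2

variable (hB : B ≤ A) (hAY : A ≤ normalizer (Y : Set G))
  (hcop : (Nat.card A).Coprime (Nat.card Y))

include hB hAY hcop

theorem commutator_fixed_le {Z : Subgroup G} (hZ : Z ≤ centralizer (Y : Set G))
    (hK : Y ⊓ centralizer (B : Set G) ≤ genSub A B Y ⊔ Z) :
    ⁅Y ⊓ centralizer (A : Set G), Y ⊓ centralizer (A : Set G)⁆ ≤ genSub A B Y := by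
  have hKY : genSub A B Y ≤ Y := (genSub_le A B Y).trans inf_le_left
  have hKZ : genSub A B Y ≤ normalizer (Z : Set G) := by
    intro x hx
    refine mem_normalizer_iff.2 fun z => ?_
    constructor <;> intro hz
    · rwa [mem_centralizer_iff.1 (hZ hz) x (hKY hx), mul_inv_cancel_right]
    · have h1 := mem_centralizer_iff.1 (hZ hz) x (hKY hx)
      have : z = x * z * x⁻¹ := by
        have h2 : x * z = x * z * x⁻¹ * x := by group
        rw [← h1] at h2
        exact mul_left_cancel h2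
      rwa [this]
  refine commutator_le.2 fun a ha b hb => ?_
  obtain ⟨k, hk, z, hz, rfl⟩ := (Coprime.mem_sup_iff_of_le_normalizer hKZ).1
    (hK ⟨ha.1, centralizer_le hB ha.2⟩)
  obtain ⟨k', hk', z', hz', rfl⟩ := (Coprime.mem_sup_iff_of_le_normalizer hKZ).1
    (hK ⟨hb.1, centralizer_le hB hb.2⟩)
  have e1 : ∀ y ∈ Y, z * y = y * z := fun y hy => (mem_centralizer_iff.1 (hZ hz) y hy).symm
  have e2 : ∀ y ∈ Y, z' * y = y * z' := fun y hy => (mem_centralizer_iff.1 (hZ hz') y hy).symm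
  have h1 : ⁅k * z, k' * z'⁆ = ⁅k, k' * z'⁆ := by
    rw [commutatorElement_def, commutatorElement_def, mul_assoc k z, e1 _ hb.1]; group
  have h2 : ⁅k, k' * z'⁆ = ⁅k, k'⁆ := by
    rw [commutatorElement_def, commutatorElement_def,
      show k * (k' * z') * k⁻¹ = k * k' * (z' * k⁻¹) by group, e2 _ (Y.inv_mem (hKY hk))]
    group
  rw [h1, h2, commutatorElement_def]
  exact mul_mem (mul_mem (mul_mem hk hk') (inv_mem hk)) (inv_mem hk')

/-- The pairing lemma. -/
theorem pairing {Z X T : Subgroup G} (hZY : Z ≤ Y) (hZ : Z ≤ centralizer (Y : Set G))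
    (hZA : A ≤ normalizer (Z : Set G))
    (hK : Y ⊓ centralizer (B : Set G) ≤ genSub A B Y ⊔ Z) (hX : X ≤ Y) (hT : T ≤ Y)
    (hXA : A ≤ normalizer (X : Set G)) (hTA : A ≤ normalizer (T : Set G)) (hXT : ⁅X, T⁆ ≤ Z) :
    ⁅X, T⁆ ⊓ centralizer (A : Set G) ≤ genSub A B Y := by
  set V := ⁅X, T⁆ with hV
  have hVY : V ≤ Y := hXT.trans hZY
  have hVA : A ≤ normalizer (V : Set G) := by
    intro a ha
    refine Coprime.mem_normalizer_of_conj_smul_eq ?_
    show Subgroup.map (MulAut.conj a).toMonoidHom _ = _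
    rw [hV, map_commutator]
    exact congrArg₂ (fun P Q => ⁅P, Q⁆) (Coprime.conj_smul_eq_self_of_mem (hXA ha))
      (Coprime.conj_smul_eq_self_of_mem (hTA ha))
  have hcent : ∀ v ∈ V, ∀ y ∈ Y, v * y = y * v := fun v hv y hy =>
    (mem_centralizer_iff.1 (hZ (hXT hv)) y hy).symm
  haveI : IsMulCommutative V := ⟨⟨fun p q => Subtype.ext (hcent p p.2 q (hVY q.2))⟩⟩
  have hcopV := hcop.coprime_dvd_right (card_dvd_of_le hVY)
  refine fixed_le_of_le_sup hVA hcopV ?_
  set J := V ⊓ centralizer (A : Set G) ⊓ genSub A B Y ⊔ ⁅V, A⁆ with hJ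
  have hJV : J ≤ V := sup_le (inf_le_left.trans inf_le_left)
    (Coprime.commutator_le_left_of_le_normalizer hVA)
  have hmulr : ∀ x ∈ X, ∀ s ∈ T, ∀ t ∈ T, ⁅x, s * t⁆ = ⁅x, s⁆ * ⁅x, t⁆ := by
    intro x hx s hs t ht
    rw [commutatorElement_mul_right_eq_mul_conj, mul_assoc ⁅x, s⁆ s, mul_assoc ⁅x, s⁆,
      ← hcent _ (commutator_mem_commutator hx ht) s (hT hs), mul_inv_cancel_right]
  let P : Subgroup G :=
    { carrier := {x | x ∈ X ∧ ∀ t ∈ T, ⁅x, t⁆ ∈ J}
      one_mem' := ⟨X.one_mem, fun t _ => by rw [commutatorElement_one_left]; exact J.one_mem⟩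
      mul_mem' := fun {a b} ha hb => ⟨X.mul_mem ha.1 hb.1, fun t ht => by
        rw [commutatorElement_mul_left_eq_conj_mul, ← hcent _ (commutator_mem_commutator hb.1 ht) a
          (hX ha.1), mul_inv_cancel_right]
        exact J.mul_mem (hb.2 t ht) (ha.2 t ht)⟩
      inv_mem' := fun {a} ha => ⟨X.inv_mem ha.1, fun t ht => by
        have h1 : ⁅a⁻¹, t⁆ = a⁻¹ * ⁅a, t⁆⁻¹ * a := by rw [commutatorElement_def, commutatorElement_def]; group
        rw [h1, mul_assoc, hcent _ (inv_mem (commutator_mem_commutator ha.1 ht)) a (hX ha.1),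
          inv_mul_cancel_left]
        exact J.inv_mem (ha.2 t ht)⟩ }
  suffices hXP : X ≤ P by
    exact commutator_le.2 fun x hx t ht => (hXP hx).2 t ht
  refine Coprime.le_of_forall_cyclic_quotient hXA (hcop.coprime_dvd_right (card_dvd_of_le hX)) ?_
  intro A₁ hA₁ hcyc x hx
  refine ⟨hx.1, ?_⟩
  have hTA₁ : A₁ ≤ normalizer (T : Set G) := hA₁.trans hTA
  haveI : IsMulCommutative A₁ :=
    ⟨⟨fun p q => Subtype.ext (congrArg (fun z : A => (z : G))
      (mul_comm' (⟨p, hA₁ p.2⟩ : A) ⟨q, hA₁ q.2⟩))⟩⟩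
  have hcopT : (Nat.card A₁).Coprime (Nat.card T) :=
    (hcop.coprime_dvd_left (card_dvd_of_le hA₁)).coprime_dvd_right (card_dvd_of_le hT)
  intro t ht
  obtain ⟨c, hc, m, hm, rfl⟩ := Coprime.exists_centralizer_mul_commutator hTA₁ hcopT
    (solvable_or A₁ T) ht
  have hTm : ⁅T, A₁⁆ ≤ T := Coprime.commutator_le_left_of_le_normalizer hTA₁
  let Q : Subgroup G :=
    { carrier := {t | t ∈ T ∧ ⁅x, t⁆ ∈ J}
      one_mem' := ⟨T.one_mem, by rw [commutatorElement_one_right]; exact J.one_mem⟩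
      mul_mem' := fun {a b} ha hb => ⟨T.mul_mem ha.1 hb.1, by
        rw [hmulr x hx.1 a ha.1 b hb.1]; exact J.mul_mem ha.2 hb.2⟩
      inv_mem' := fun {a} ha => ⟨T.inv_mem ha.1, by
        have := hmulr x hx.1 a⁻¹ (T.inv_mem ha.1) a ha.1
        rw [inv_mul_cancel, commutatorElement_one_right] at this
        rw [eq_inv_of_mul_eq_one_left this.symm]
        exact J.inv_mem ha.2⟩ }
  have hmQ : ⁅T, A₁⁆ ≤ Q := by
    refine commutator_le.2 fun u hu a ha => ⟨hTm (commutator_mem_commutator hu ha), ?_⟩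
    have hxa : a * x = x * a := mem_centralizer_iff.1 hx.2 a ha
    have hu' : a * u⁻¹ * a⁻¹ ∈ T := (mem_normalizer_iff.1 (hTA₁ ha) _).1 (T.inv_mem hu)
    have hv := commutator_mem_commutator (H₁ := X) (H₂ := T) hx.1 hu
    have e : ⁅u, a⁆ = u * (a * u⁻¹ * a⁻¹) := by rw [commutatorElement_def]; group
    rw [e, hmulr x hx.1 u hu _ hu']
    have hxu : ⁅x, u⁻¹⁆ = ⁅x, u⁆⁻¹ := by
      have := hmulr x hx.1 u hu u⁻¹ (T.inv_mem hu)
      rw [mul_inv_cancel, commutatorElement_one_right] at this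
      exact eq_inv_of_mul_eq_one_right this.symm
    have e2 : ⁅x, a * u⁻¹ * a⁻¹⁆ = a * ⁅x, u⁻¹⁆ * a⁻¹ := by
      have hxc : a * x * a⁻¹ = x := by rw [hxa, mul_inv_cancel_right]
      conv_lhs => rw [← hxc]
      exact (map_commutatorElement (MulAut.conj a).toMonoidHom x u⁻¹).symm
    rw [e2, hxu]
    refine mem_sup_right ?_
    have := commutator_mem_commutator (H₁ := V) (H₂ := A) hv (hA₁ ha)
    rwa [commutatorElement_def, mul_assoc, mul_assoc, ← mul_assoc a] at this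
  refine (Q.mul_mem ?_ (hmQ hm)).2
  refine ⟨hc.1, ?_⟩
  -- both `x` and `c` lie in `C_Y(A₁)`
  set D := Y ⊓ centralizer (A₁ : Set G) with hD
  set L := ⁅D, A⁆ with hL
  have hDA : A ≤ normalizer (D : Set G) := le_normalizer_inf_centralizer hA₁ hAY
  have hLD : L ≤ D := Coprime.commutator_le_left_of_le_normalizer hDA
  have hLn : D ≤ normalizer (L : Set G) := normalizer_commutator_ge_left D A
  have hxD : x ∈ D := ⟨hX hx.1, hx.2⟩
  have hcD : c ∈ D := ⟨hT hc.1, hc.2⟩
  have hcopD : (Nat.card A).Coprime (Nat.card D) := hcop.coprime_dvd_right (card_dvd_of_le inf_le_left)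
  set D0 := D ⊓ centralizer (A : Set G) with hD0
  have hD0K : ⁅D0, D0⁆ ≤ genSub A B Y :=
    (commutator_mono (inf_le_inf_right _ inf_le_left) (inf_le_inf_right _ inf_le_left)).trans
      (commutator_fixed_le hB hAY hcop hZ hK)
  have hDD : ⁅x, c⁆ ∈ L ⊔ ⁅D0, D0⁆ := by
    obtain ⟨x0, hx0, x1, hx1, rfl⟩ := exists_split hDA hcopD hxD
    obtain ⟨c0, hc0, c1, hc1, rfl⟩ := exists_split hDA hcopD hcD
    have hconj : ∀ d ∈ D, ∀ l ∈ L, d * l * d⁻¹ ∈ L := fun d hd l hl =>
      (mem_normalizer_iff.1 (hLn hd) l).1 hl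
    have hcm : ∀ d ∈ D, ∀ l ∈ L, ⁅l, d⁆ ∈ L := fun d hd l hl => by
      rw [commutatorElement_def, mul_assoc, mul_assoc]
      refine L.mul_mem hl ?_
      rw [← mul_assoc]
      exact hconj d hd _ (L.inv_mem hl)
    rw [commutatorElement_mul_left_eq_conj_mul]
    refine mul_mem (mem_sup_left (hconj x0 hx0.1 _ (hcm _ hcD x1 hx1))) ?_
    rw [commutatorElement_mul_right_eq_mul_conj, mul_assoc ⁅x0, c0⁆ c0, mul_assoc ⁅x0, c0⁆]
    refine mul_mem (mem_sup_right (commutator_mem_commutator hx0 hc0)) (mem_sup_left ?_)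
    have h1 : ⁅x0, c1⁆ ∈ L := by
      rw [← commutatorElement_inv]; exact L.inv_mem (hcm x0 hx0.1 c1 hc1)
    exact hconj c0 hc0.1 _ h1
  set U := V ⊓ centralizer (A₁ : Set G) with hU
  have hUA : A ≤ normalizer (U : Set G) := le_normalizer_inf_centralizer hA₁ hVA
  have hvU : ⁅x, c⁆ ∈ U := ⟨commutator_mem_commutator hx.1 hc.1,
    mem_centralizer_iff.2 fun a ha => by
      have h1 : Commute a x := mem_centralizer_iff.1 hx.2 a ha
      have h2 : Commute a c := mem_centralizer_iff.1 hc.2 a ha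
      exact (((h1.mul_right h2).mul_right h1.inv_right).mul_right h2.inv_right).eq⟩
  obtain ⟨v0, hv0, v1, hv1, hv⟩ := exists_split hUA
    (hcopV.coprime_dvd_right (card_dvd_of_le inf_le_left)) hvU
  rw [hv]
  refine mul_mem (mem_sup_left ⟨⟨hv0.1.1, hv0.2⟩, ?_⟩)
    (mem_sup_right (commutator_mono inf_le_left le_rfl hv1))
  have hv1L : v1 ∈ L := commutator_mono (inf_le_inf_right _ hVY) le_rfl hv1
  have hLD0 : ⁅D0, D0⁆ ≤ normalizer (L : Set G) :=
    ((commutator_le_self D0).trans inf_le_left).trans hLn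
  have h0 : v0 ∈ L ⊔ ⁅D0, D0⁆ := by
    rw [hv] at hDD
    have := mul_mem hDD (mem_sup_left (T := ⁅D0, D0⁆) (inv_mem hv1L))
    rwa [mul_inv_cancel_right] at this
  rw [sup_comm] at h0
  obtain ⟨d, hd, e, he, rfl⟩ := (Coprime.mem_sup_iff_of_le_normalizer hLD0).1 h0
  refine mul_mem (hD0K hd) (mem_genSub_of_fixed hB hA₁ hcyc hAY he ?_)
  have := mul_mem (inv_mem ((commutator_le_self D0).trans inf_le_right hd)) hv0.2
  rwa [inv_mul_cancel_left] at this

/-- The abelian lemma. -/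
theorem abelian_case (hYA : ⁅Y, A⁆ = Y) {R : Subgroup G} [IsMulCommutative R] (hRY : R ≤ Y)
    (hYR : Y ≤ normalizer (R : Set G)) (hRA : A ≤ normalizer (R : Set G)) (hR : ⁅R, Y⁆ = R) :
    R ⊓ centralizer (A : Set G) ≤ genSub A B Y := by
  have hcopR := hcop.coprime_dvd_right (card_dvd_of_le hRY)
  refine fixed_le_of_le_sup hRA hcopR ?_
  set J := R ⊓ centralizer (A : Set G) ⊓ genSub A B Y ⊔ ⁅R, A⁆ with hJ
  have hconjR : ∀ y ∈ Y, ∀ r ∈ R, y * r * y⁻¹ ∈ R := fun y hy r hr =>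
    (mem_normalizer_iff.1 (hYR hy) r).1 hr
  have hRc : ∀ r ∈ R, ∀ s ∈ R, r * s = s * r := fun r hr s hs =>
    congrArg (fun z : R => (z : G)) (mul_comm' (⟨r, hr⟩ : R) ⟨s, hs⟩)
  let P : Subgroup G :=
    { carrier := {y | y ∈ Y ∧ ∀ r ∈ R, y * r * y⁻¹ * r⁻¹ ∈ J}
      one_mem' := ⟨Y.one_mem, fun r _ => by simp⟩
      mul_mem' := fun {a b} ha hb => ⟨Y.mul_mem ha.1 hb.1, fun r hr => by
        have h := J.mul_mem (ha.2 _ (hconjR b hb.1 r hr)) (hb.2 r hr)
        convert h using 1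
        group⟩
      inv_mem' := fun {a} ha => ⟨Y.inv_mem ha.1, fun r hr => by
        have h := J.inv_mem (ha.2 _ (hconjR a⁻¹ (Y.inv_mem ha.1) r hr))
        convert h using 1
        group⟩ }
  suffices hYP : Y ≤ P by
    rw [← hR]
    refine commutator_le.2 fun r hr y hy => ?_
    have h := J.inv_mem ((hYP hy).2 r hr)
    convert h using 1
    rw [commutatorElement_def]; group
  rw [← hYA]
  refine Coprime.commutator_le_of_forall_cyclic_quotient hAY hcop fun A₁ hA₁ hcyc => ?_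
  set D := Y ⊓ centralizer (A₁ : Set G) with hD
  set L := ⁅D, A⁆ with hL
  intro l hl
  have hDA : A ≤ normalizer (D : Set G) := le_normalizer_inf_centralizer hA₁ hAY
  have hLD : L ≤ D := Coprime.commutator_le_left_of_le_normalizer hDA
  have hlY : l ∈ Y := (hLD hl).1
  refine ⟨hlY, ?_⟩
  let Q : Subgroup G :=
    { carrier := {r | r ∈ R ∧ l * r * l⁻¹ * r⁻¹ ∈ J}
      one_mem' := ⟨R.one_mem, by simp⟩
      mul_mem' := fun {a b} ha hb => ⟨R.mul_mem ha.1 hb.1, by
        have hb' : l * b * l⁻¹ * b⁻¹ ∈ R := R.mul_mem (hconjR l hlY b hb.1) (R.inv_mem hb.1)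
        have h := J.mul_mem ha.2 hb.2
        have e : l * (a * b) * l⁻¹ * (a * b)⁻¹ = l * a * l⁻¹ * a⁻¹ * (a * (l * b * l⁻¹ * b⁻¹) * a⁻¹) := by
          group
        rwa [e, hRc a ha.1 _ hb', mul_inv_cancel_right]⟩
      inv_mem' := fun {a} ha => ⟨R.inv_mem ha.1, by
        have ha' : l * a * l⁻¹ * a⁻¹ ∈ R := R.mul_mem (hconjR l hlY a ha.1) (R.inv_mem ha.1)
        have e : l * a⁻¹ * l⁻¹ * a⁻¹⁻¹ = a⁻¹ * (l * a * l⁻¹ * a⁻¹)⁻¹ * a := by group
        rw [e, mul_assoc, hRc _ (R.inv_mem ha') a ha.1, inv_mul_cancel_left]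
        exact J.inv_mem ha.2⟩ }
  suffices hRQ : R ≤ Q from fun r hr => (hRQ hr).2
  have hRA₁ : A₁ ≤ normalizer (R : Set G) := hA₁.trans hRA
  have hcop₁ : (Nat.card A₁).Coprime (Nat.card R) := hcopR.coprime_dvd_left (card_dvd_of_le hA₁)
  rw [← Coprime.commutator_sup_centralizer hRA₁ hcop₁ (Or.inr (Group.isSolvable_of_comm
    fun x y => mul_comm' x y))]
  refine sup_le (commutator_le.2 fun u hu a ha => ?_) fun c hc => ?_
  · refine ⟨Coprime.commutator_le_left_of_le_normalizer hRA₁ (commutator_mem_commutator hu ha), ?_⟩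
    set w := l * u * l⁻¹ * u⁻¹ with hw
    have hwR : w ∈ R := R.mul_mem (hconjR l hlY u hu) (R.inv_mem hu)
    have hla : a * l = l * a := mem_centralizer_iff.1 (hLD hl).2 a ha
    have hu1 : a * (l * u⁻¹ * l⁻¹ * u) * a⁻¹ ∈ R :=
      (mem_normalizer_iff.1 (hRA₁ ha) _).1 (R.mul_mem (hconjR l hlY _ (R.inv_mem hu)) hu)
    have e : l * ⁅u, a⁆ * l⁻¹ * ⁅u, a⁆⁻¹ =
        (l * u * l⁻¹) * (a * (l * u⁻¹ * l⁻¹ * u) * a⁻¹) * u⁻¹ := by
      have h1 : ∀ x : G, l * (a * x * a⁻¹) * l⁻¹ = a * (l * x * l⁻¹) * a⁻¹ := fun x => by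
        calc l * (a * x * a⁻¹) * l⁻¹ = (l * a) * x * (l * a)⁻¹ := by group
          _ = (a * l) * x * (a * l)⁻¹ := by rw [hla]
          _ = _ := by group
      calc l * ⁅u, a⁆ * l⁻¹ * ⁅u, a⁆⁻¹
          = (l * u * l⁻¹) * (l * (a * u⁻¹ * a⁻¹) * l⁻¹) * (a * u * a⁻¹) * u⁻¹ := by
            rw [commutatorElement_def]; group
        _ = _ := by rw [h1]; group
    have e2 : l * u⁻¹ * l⁻¹ * u = w⁻¹ := by
      rw [hw, mul_inv_rev, inv_inv, show (l * u * l⁻¹)⁻¹ = l * u⁻¹ * l⁻¹ by group,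
        hRc u hu _ (hconjR l hlY _ (R.inv_mem hu))]
    rw [e, mul_assoc (l * u * l⁻¹), hRc _ hu1 _ (R.inv_mem hu), ← mul_assoc, e2, ← hw]
    refine mem_sup_right ?_
    have := commutator_mem_commutator (H₁ := R) (H₂ := A) hwR (hA₁ ha)
    rwa [commutatorElement_def, mul_assoc, mul_assoc, ← mul_assoc a] at this
  · refine ⟨hc.1, ?_⟩
    have hcD : c ∈ D := ⟨hRY hc.1, hc.2⟩
    have hdL : l * c * l⁻¹ * c⁻¹ ∈ L := by
      rw [show l * c * l⁻¹ * c⁻¹ = l * (c * l⁻¹ * c⁻¹) by group]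
      exact L.mul_mem hl ((mem_normalizer_iff.1 (normalizer_commutator_ge_left D A hcD) _).1 (L.inv_mem hl))
    set U := R ⊓ centralizer (A₁ : Set G) with hU
    have hdU : l * c * l⁻¹ * c⁻¹ ∈ U :=
      ⟨R.mul_mem (hconjR l hlY c hc.1) (R.inv_mem hc.1), (hLD hdL).2⟩
    obtain ⟨v0, hv0, v1, hv1, hv⟩ := exists_split (le_normalizer_inf_centralizer hA₁ hRA)
      (hcopR.coprime_dvd_right (card_dvd_of_le inf_le_left)) hdU
    rw [hv] at hdL ⊢
    refine mul_mem (mem_sup_left ⟨⟨hv0.1.1, hv0.2⟩, ?_⟩)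
      (mem_sup_right (commutator_mono inf_le_left le_rfl hv1))
    refine mem_genSub_of_fixed hB hA₁ hcyc hAY ?_ hv0.2
    have := L.mul_mem hdL (L.inv_mem (commutator_mono (inf_le_inf_right _ hRY) le_rfl hv1))
    rwa [mul_inv_cancel_right] at this

omit hB hAY hcop in
/-- `C_Y(B)` is generated by the pieces. -/
theorem inf_centralizer_le_genSub : ∀ (n : ℕ) (G : Type u) [Group G] [Finite G] (A B Y : Subgroup G)
    [IsMulCommutative A], Nat.card Y = n → B ≤ A → A ≤ normalizer (Y : Set G) → Y ⊔ A = ⊤ →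
    (Nat.card A).Coprime (Nat.card Y) → Group.IsSolvable Y → ⁅Y, A⁆ = Y →
    Y ⊓ centralizer (B : Set G) ≤ genSub A B Y := by
  intro n
  induction n using Nat.strong_induction_on with
  | _ n ih =>
  intro G _ _ A B Y _ hn hB hAY htop hcop hsol hYA
  classical
  by_cases hY : Y = ⊥
  · rw [hY]; exact inf_le_left.trans bot_le
  haveI hYn : Y.Normal := normalizer_eq_top_iff.1 (top_le_iff.1 (htop ▸ sup_le le_normalizer hAY))
  -- reduction by an abelian normal subgroup
  have key : ∀ W : Subgroup G, W.Normal → W ≤ Y → W ≠ ⊥ → IsMulCommutative W →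
      ((Y ⊓ centralizer (B : Set G) ≤ genSub A B Y ⊔ W) → W ⊓ centralizer (A : Set G) ≤ genSub A B Y) →
      Y ⊓ centralizer (B : Set G) ≤ genSub A B Y := by
    intro W hWn hWY hW1 hWc hfix
    haveI := hWn
    haveI := hWc
    set f := QuotientGroup.mk' W with hf
    have hcopW := hcop.coprime_dvd_right (card_dvd_of_le hWY)
    haveI : IsMulCommutative (A.map f) := ⟨⟨by
      rintro ⟨_, p, hp, rfl⟩ ⟨_, q, hq, rfl⟩
      refine Subtype.ext ?_
      show f p * f q = f q * f p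
      rw [← map_mul, ← map_mul]
      exact congrArg f (congrArg (fun z : A => (z : G)) (mul_comm' (⟨p, hp⟩ : A) ⟨q, hq⟩))⟩⟩
    have hlt : Nat.card (Y.map f) < n := by
      rw [← hn]
      refine lt_of_le_of_ne (Nat.le_of_dvd Nat.card_pos (card_map_dvd Y f)) fun he => hW1 ?_
      have hinj : Function.Injective (f.subgroupMap Y) :=
        ((Nat.bijective_iff_surjective_and_card _).2 ⟨f.subgroupMap_surjective Y, he.symm⟩).1
      refine eq_bot_iff.2 fun w hw => mem_bot.2 ?_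
      have := hinj (a₁ := ⟨w, hWY hw⟩) (a₂ := 1) (Subtype.ext (by
        show f w = f 1
        rw [map_one]; exact (QuotientGroup.eq_one_iff w).2 hw))
      exact congrArg Subtype.val this
    have hIH := ih _ hlt (G ⧸ W) (A.map f) (B.map f) (Y.map f) rfl (map_mono hB)
      ((map_mono hAY).trans (le_normalizer_map f))
      (by rw [← Subgroup.map_sup, htop, map_top_of_surjective f (QuotientGroup.mk'_surjective W)])
      ((hcop.coprime_dvd_left (card_map_dvd A f)).coprime_dvd_right (card_map_dvd Y f))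
      (Coprime.isSolvable_map f Y hsol) (by rw [← map_commutator, hYA])
    have hsub : genSub (A.map f) (B.map f) (Y.map f) ≤ (genSub A B Y).map f := by
      refine iSup₂_le fun A₁' hA₁' => ?_
      obtain ⟨hle, ab, hab, habA⟩ := hA₁'
      obtain ⟨a, ha, rfl⟩ := hab
      set A₁ := A ⊓ A₁'.comap f with hA₁
      have hcyc : A₁ ⊔ zpowers a = A := by
        refine le_antisymm (sup_le inf_le_left (zpowers_le.2 ha)) fun x hx => ?_
        have : f x ∈ A₁' ⊔ zpowers (f a) := habA ▸ mem_map_of_mem f hx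
        have hn' : zpowers (f a) ≤ normalizer (A₁' : Set (G ⧸ W)) :=
          (zpowers_le.2 (mem_map_of_mem f ha)).trans
            ((le_centralizer_self hle).trans (centralizer_le_normalizer _))
        obtain ⟨p, hp, q, hq, hpq⟩ := (Coprime.mem_sup_iff_of_le_normalizer' hn').1 (by rwa [sup_comm] at this)
        obtain ⟨i, rfl⟩ := hq
        simp only at hpq
        have hx' : x * (a ^ i)⁻¹ ∈ A₁ := by
          refine ⟨A.mul_mem hx (A.inv_mem (A.zpow_mem ha i)), ?_⟩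
          show f (x * (a ^ i)⁻¹) ∈ A₁'
          rw [map_mul, map_inv, map_zpow, ← hpq]
          simpa using hp
        have := mul_mem (mem_sup_left (T := zpowers a) hx') (mem_sup_right (zpow_mem (mem_zpowers a) i))
        rwa [inv_mul_cancel_right] at this
      have hmap : A₁' ⊓ B.map f = (A₁ ⊓ B).map f := by
        refine le_antisymm ?_ ?_
        · rintro _ ⟨hy, b, hb, rfl⟩
          exact ⟨b, ⟨⟨hB hb, hy⟩, hb⟩, rfl⟩
        · rintro _ ⟨x, ⟨⟨-, hx⟩, hxB⟩, rfl⟩
          exact ⟨hx, mem_map_of_mem f hxB⟩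
      rw [hmap]
      set C₁ := A₁ ⊓ B
      have hC₁ : C₁ ≤ A := inf_le_right.trans hB
      haveI : IsMulCommutative C₁ := ⟨⟨fun p q => Subtype.ext (congrArg (fun z : A => (z : G))
        (mul_comm' (⟨p, hC₁ p.2⟩ : A) ⟨q, hC₁ q.2⟩))⟩⟩
      rw [← Coprime.map_mk'_inf_centralizer W (hC₁.trans hAY) (hcop.coprime_dvd_left (card_dvd_of_le hC₁))
        (solvable_or C₁ Y), ← map_commutator]
      set L := ⁅Y ⊓ centralizer (C₁ : Set G), A⁆ with hL
      have hLA : A ≤ normalizer (L : Set G) := normalizer_commutator_ge_right _ A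
      have hLY : L ≤ Y :=
        (Coprime.commutator_le_left_of_le_normalizer (le_normalizer_inf_centralizer hC₁ hAY)).trans inf_le_left
      haveI : IsMulCommutative B := ⟨⟨fun p q => Subtype.ext (congrArg (fun z : A => (z : G))
        (mul_comm' (⟨p, hB p.2⟩ : A) ⟨q, hB q.2⟩))⟩⟩
      have h3 := Coprime.map_mk'_inf_centralizer W (A := B) (K := L) (hB.trans hLA)
        ((hcop.coprime_dvd_left (card_dvd_of_le hB)).coprime_dvd_right (card_dvd_of_le hLY))
        (solvable_or B L)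
      refine le_trans (le_inf inf_le_right (inf_le_left.trans inf_le_right)) (h3.ge.trans (map_mono ?_))
      exact le_trans (le_inf (le_inf (inf_le_left.trans hLY) inf_le_right) inf_le_left)
        (le_genSub inf_le_left ⟨a, ha, hcyc⟩)
    haveI : IsMulCommutative B := ⟨⟨fun p q => Subtype.ext (congrArg (fun z : A => (z : G))
      (mul_comm' (⟨p, hB p.2⟩ : A) ⟨q, hB q.2⟩))⟩⟩
    have hcover : Y ⊓ centralizer (B : Set G) ≤ genSub A B Y ⊔ W := by
      intro y hy
      have h4 : f y ∈ (genSub A B Y).map f := hsub (hIH (by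
        rw [← Coprime.map_mk'_inf_centralizer W (hB.trans hAY)
          (hcop.coprime_dvd_left (card_dvd_of_le hB)) (solvable_or B Y)]
        exact mem_map_of_mem f hy))
      obtain ⟨k, hk, hky⟩ := h4
      have : k⁻¹ * y ∈ W := (QuotientGroup.eq (s := W)).1 hky
      have h5 := mul_mem (mem_sup_left (T := W) hk) (mem_sup_right this)
      rwa [mul_inv_cancel_left] at h5
    intro y hy
    obtain ⟨k, hk, w, hw, rfl⟩ := mem_sup_of_normal_right.1 (hcover hy)
    refine mul_mem hk ?_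
    have hwB : w ∈ W ⊓ centralizer (B : Set G) := ⟨hw, by
      have := Subgroup.mul_mem _ (Subgroup.inv_mem _ (genSub_le A B Y hk).2) hy.2
      rwa [inv_mul_cancel_left] at this⟩
    have hWA : A ≤ normalizer ((W ⊓ centralizer (B : Set G) : Subgroup G) : Set G) :=
      le_normalizer_inf_centralizer hB (normalizer_eq_top (H := W) ▸ le_top)
    obtain ⟨c, hc, m, hm, rfl⟩ := exists_split hWA
      (hcopW.coprime_dvd_right (card_dvd_of_le inf_le_left)) hwB
    refine mul_mem (hfix hcover ⟨hc.1.1, hc.2⟩) ?_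
    have hm' := Coprime.commutator_le_left_of_le_normalizer hWA hm
    refine le_genSub le_rfl ⟨1, A.one_mem, by rw [zpowers_one_eq_bot, sup_bot_eq]⟩
      ⟨⟨hWY hm'.1, hm'.2⟩, commutator_mono (le_inf (inf_le_left.trans hWY)
        (inf_le_right.trans (centralizer_le inf_le_right))) le_rfl hm⟩
  -- choice of the abelian normal subgroup
  set Z := Y ⊓ centralizer (Y : Set G) with hZ
  haveI : Z.Normal := inferInstance
  by_cases hYab : Y ≤ Z
  · have hc : IsMulCommutative Y :=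
      ⟨⟨fun p q => Subtype.ext (mem_centralizer_iff.1 (hYab q.2).2 p p.2)⟩⟩
    refine key Y hYn le_rfl hY hc fun _ => ?_
    haveI := hc
    intro y hy
    have : y ∈ Y ⊓ centralizer (A : Set G) ⊓ ⁅Y, A⁆ := ⟨hy, by rw [hYA]; exact hy.1⟩
    rw [Coprime.inf_centralizer_inf_commutator_eq_bot hAY hcop, mem_bot] at this
    rw [this]; exact one_mem _
  obtain ⟨R, ⟨hRn, hRY, hRZ⟩, hRmin⟩ :=
    (Set.toFinite {R : Subgroup G | R.Normal ∧ R ≤ Y ∧ ¬ R ≤ Z}).exists_minimal ⟨Y, hYn, le_rfl, hYab⟩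
  haveI := hRn
  have hRA : A ≤ normalizer (R : Set G) := normalizer_eq_top (H := R) ▸ le_top
  have hmin : ∀ M : Subgroup G, M.Normal → M ≤ R → M ≤ Z ∨ M = R := fun M hM hMR => by
    by_cases h : M ≤ Z
    · exact Or.inl h
    · exact Or.inr (le_antisymm hMR (hRmin ⟨hM, hMR.trans hRY, h⟩ hMR))
  have hZc : ∀ M : Subgroup G, M ≤ Z → IsMulCommutative M := fun M hM =>
    ⟨⟨fun p q => Subtype.ext (mem_centralizer_iff.1 (hM q.2).2 p (hM p.2).1)⟩⟩
  rcases hmin ⁅R, Y⁆ inferInstance (commutator_le_left R Y) with h | h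
  · refine key ⁅R, Y⁆ inferInstance ((commutator_le_left R Y).trans hRY) ?_ (hZc _ h) fun hK =>
      pairing hB hAY hcop inf_le_left inf_le_right (normalizer_eq_top (H := Z) ▸ le_top)
        (hK.trans (sup_le le_sup_left (h.trans le_sup_right))) hRY le_rfl hRA hAY h
    intro h0
    refine hRZ (le_inf hRY ?_)
    exact commutator_eq_bot_iff_le_centralizer.1 h0
  · by_cases hRab : ⁅R, R⁆ = ⊥
    · have hc : IsMulCommutative R := ⟨⟨fun p q => Subtype.ext
        (mem_centralizer_iff.1 (commutator_eq_bot_iff_le_centralizer.1 hRab q.2) p p.2)⟩⟩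
      haveI := hc
      exact key R hRn hRY (fun h0 => hRZ (h0 ▸ bot_le)) hc fun _ =>
        abelian_case hB hAY hcop hYA hRY (normalizer_eq_top (H := R) ▸ le_top) hRA h
    · rcases hmin ⁅R, R⁆ inferInstance (commutator_le_self R) with h' | h'
      · exact key ⁅R, R⁆ inferInstance ((commutator_le_self R).trans hRY) hRab (hZc _ h') fun hK =>
          pairing hB hAY hcop inf_le_left inf_le_right (normalizer_eq_top (H := Z) ▸ le_top)
            (hK.trans (sup_le le_sup_left (h'.trans le_sup_right))) hRY hRY hRA hRA h'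
      · exfalso
        haveI hsR : Group.IsSolvable R := Coprime.isSolvable_of_le hRY hsol
        haveI : Nontrivial R := (nontrivial_iff_ne_bot R).2 (fun h0 => hRZ (h0 ▸ bot_le))
        refine (Group.IsSolvable.commutator_lt_top_of_nontrivial R).ne ?_
        refine map_injective R.subtype_injective ?_
        rw [_root_.commutator_def, map_commutator, ← MonoidHom.range_eq_map, range_subtype]
        exact h'

end Cfsg.Agent.CoprimeGen
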